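import Groth.Agent.SymAlg.AmpleR
import Groth.Agent.SymAlg.AmpleOfR
import Groth.Agent.RelTilde.Twist
import Groth.Agent.RelTilde.SectLift
import Groth.Agent.RelTilde.ProjMap

/-!
The comparison `O(n) ⟶ r_* L^{⊗ n}` along a morphism into a relative Proj given by a graded morphism
of algebras.
-/

set_option autoImplicit false
set_option backward.isDefEq.respectTransparency false
set_option linter.style.haveILetI false
set_option linter.unusedSectionVars false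

universe u

open CategoryTheory CategoryTheory.Limits DirectSum AlgebraicGeometry TopologicalSpace Opposite
open scoped HomogeneousIdeal
open Groth.Agent.QC (res resO res_res res_self res_smul app_res)

noncomputable section

namespace Groth.Agent.SymAlg.AmpleTwist

open Groth.Agent
open TMul (IsGen pw)

variable {X Y P : Scheme.{u}} {f : X ⟶ Y} {L : X.Modules} (hL : PicF.IsInvertible L)
  (hLq : Coh.IsQCoh L) {𝒜 : RelProj.QCGrAlg Y} {𝒮L : RelProj.QCGrAlg X} {jl : L ⟶ 𝒮L.toModule}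
  (hjl : RelProj.IsGrSymAlg L 𝒮L jl) (u : RelProj.QGrHom f 𝒜 𝒮L) {p : P ⟶ Y}
  {ch : ∀ (U : Y.Opens) (hU : IsAffineOpen U), ((p ⁻¹ᵁ U : P.Opens) : Scheme.{u}) ≅ Proj (𝒜.deg U hU)}
  (hP : RelProj.IsRelProj 𝒜 p ch) {n : ℕ} {On : P.Modules}
  {lam : ∀ (U : Y.Opens) (hU : IsAffineOpen U), On ⟶ (RelTilde.Datum.self 𝒜).E p ch (n : ℤ) U hU}
  (hOn : (RelTilde.Datum.self 𝒜).IsTilde p ch (n : ℤ) On lam)
  {r' : X ⟶ P} (hover : r' ≫ p = f)
  (hpre : ∀ (U : Y.Opens) (hU : IsAffineOpen U) (j : ℕ), 0 < j → ∀ g ∈ 𝒜.deg U hU j, ∀ x : X,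
    r'.base x ∈ Rel.DPlus p ch hU g ↔ x ∈ Rel.NV u hU j g)
  (hkey : ∀ (U : Y.Opens) (hU : IsAffineOpen U) (j : ℕ), 0 < j →
    ∀ (g : 𝒜.presheaf.obj (op U)) (hg : g ∈ 𝒜.deg U hU j)
    (V : X.Opens) (_ : IsAffineOpen V) (hVU : V ≤ f ⁻¹ᵁ U) (h : V ≤ r' ⁻¹ᵁ Rel.DPlus p ch hU g)
    (k : ℕ) (a : 𝒜.presheaf.obj (op U)) (ha : a ∈ 𝒜.deg U hU (k • j))
    (c : Γ(P, Rel.DPlus p ch hU g)),
    ((RelProj.emb p ch U hU).appLE (Rel.DPlus p ch hU g)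
      (Proj.basicOpen (𝒜.deg U hU) g) ((RelProj.emb p ch U hU).preimage_image_eq _).ge).hom c =
        RelTilde.away (𝒜.deg U hU) hg k ha →
    ∃ N : ℕ, (u.appLE U V hVU).hom g ^ N * ((u.appLE U V hVU).hom g ^ k *
      strL 𝒮L V ((r'.appLE (Rel.DPlus p ch hU g) V h).hom c) - (u.appLE U V hVU).hom a) = 0)

lemma resL_appLE {U : Y.Opens} {V V' : X.Opens} (h : V ≤ f ⁻¹ᵁ U) (h' : V' ≤ V)
    (a : 𝒜.presheaf.obj (op U)) :
    resL 𝒮L h' ((u.appLE U V h).hom a) = (u.appLE U V' (h'.trans h)).hom a :=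
  congr(($(u.toQHom.appLE_map h h')).hom a)

lemma appLE_res {U B : Y.Opens} {V : X.Opens} (hB : B ≤ U) (h : V ≤ f ⁻¹ᵁ B)
    (a : 𝒜.presheaf.obj (op U)) :
    (u.appLE B V h).hom ((𝒜.presheaf.map (homOfLE hB).op).hom a) =
      (u.appLE U V (h.trans (f.preimage_mono hB))).hom a := by
  rw [RelSpec.QHom.appLE_eq, RelSpec.QHom.appLE_eq]
  change ((𝒜.presheaf.map (homOfLE hB).op ≫ u.app B) ≫ 𝒮L.presheaf.map (homOfLE h).op).hom a = _
  rw [← u.naturality hB, Category.assoc, ← Functor.map_comp]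
  rfl

include hLq hjl in
/-- A unit times a power of a generator is regular. -/
lemma regular {V : X.Opens} (hV : IsAffineOpen V) {e : Γ(L, V)} (he : IsGen e) {c : Γ(X, V)}
    (hc : IsUnit c) (k : ℕ) {z : 𝒮L.presheaf.obj (op V)}
    (h : strL 𝒮L V c * jL jl V e ^ k * z = 0) : z = 0 := by
  obtain ⟨q, rfl⟩ := (evalL_bijective hLq hjl hV he).2 z
  have h1 : evalL jl V e (Polynomial.monomial k c * q) = evalL jl V e 0 := by
    rw [map_mul, map_zero]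
    rw [show evalL jl V e (Polynomial.monomial k c) = strL 𝒮L V c * jL jl V e ^ k from
      Polynomial.eval₂_monomial _ _]
    exact h
  have h2 := (evalL_bijective hLq hjl hV he).1 h1
  rw [show Polynomial.monomial k c = Polynomial.C c * Polynomial.X ^ k from
    Polynomial.C_mul_X_pow_eq_monomial.symm, mul_assoc] at h2
  have h3 : Polynomial.X ^ k * q = 0 := (hc.map Polynomial.C).mul_right_eq_zero.mp h2
  rw [(Polynomial.monic_X_pow k).mul_right_eq_zero_iff.mp h3, map_zero]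

include hL hLq hjl in
/-- Near a point of the non-vanishing locus, a trivialisation in which `ψ g` is a unit. -/
lemma exists_nhd {U : Y.Opens} (hU : IsAffineOpen U) {j : ℕ} {g : 𝒜.presheaf.obj (op U)}
    (hg : g ∈ 𝒜.deg U hU j) {x : X} (hx : x ∈ Rel.NV u hU j g) {O : X.Opens} (hxO : x ∈ O) :
    ∃ (V : X.Opens) (_ : IsAffineOpen V) (e : Γ(L, V)) (c : Γ(X, V)) (h : V ≤ f ⁻¹ᵁ U),
      x ∈ V ∧ V ≤ O ∧ IsGen e ∧ IsUnit c ∧
        (u.appLE U V h).hom g = strL 𝒮L V c * jL jl V e ^ j := by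
  obtain ⟨V₁, hV₁, h₁, hx₁, hs⟩ := (mem_NV_iff u hU j g x).mp hx
  obtain ⟨V₀, hV₀, e, hx₀, hle, he⟩ := exists_triv hL (O := O ⊓ f ⁻¹ᵁ U) (x := x) ⟨hxO, h₁ hx₁⟩
  have h₀ : V₀ ≤ f ⁻¹ᵁ U := fun y hy => (hle hy).2
  obtain ⟨c, hc⟩ := exists_coeff hLq hjl hV₀ he (resL_uapp_mem u hU hg V₀ hV₀ h₀)
  have hxc : x ∈ X.basicOpen c :=
    mem_basicOpen_of_span hLq hjl hV₀ he hV₁ ((u.app U).hom g) h₁ h₀ c hc hx₁ hx₀ hs
  refine ⟨X.basicOpen c, hV₀.basicOpen c, res L (X.basicOpen_le c) e, resO X (X.basicOpen_le c) c,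
    (X.basicOpen_le c).trans h₀, hxc, fun y hy => (hle (X.basicOpen_le c hy)).1, he.res _,
    RingedSpace.isUnit_res_basicOpen X.toLocallyRingedSpace.toRingedSpace c, ?_⟩
  have h2 := congrArg (resL 𝒮L (X.basicOpen_le c)) hc
  rw [resL_resL, map_mul, map_pow, resL_strL, resL_jL] at h2
  exact h2

variable (n) in
/-- A fraction `m / g` representing a section at the image of a point. -/
def Reads {W : P.Opens} (s : Γ(On, W)) {U : Y.Opens} (hU : IsAffineOpen U) (j : ℕ)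
    (g m : 𝒜.presheaf.obj (op U)) (x : X) : Prop :=
  0 < j ∧ g ∈ 𝒜.deg U hU j ∧ m ∈ 𝒜.deg U hU (j + n) ∧
    ∃ (y : ProjectiveSpectrum (𝒜.deg U hU)) (hy : (RelProj.emb p ch U hU).base y ∈ W)
      (hg : g ∉ y.asHomogeneousIdeal), (RelProj.emb p ch U hU).base y = r'.base x ∧
      GrMod.val (V := RelProj.emb p ch U hU ⁻¹ᵁ W) ((lam U hU).app W s) ⟨y, hy⟩ =
        RelTilde.fr (𝒜.deg U hU) y m g hg

include hpre in
lemma Reads.mem_NV {W : P.Opens} {s : Γ(On, W)} {U : Y.Opens} {hU : IsAffineOpen U} {j : ℕ}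
    {g m : 𝒜.presheaf.obj (op U)} {x : X}
    (h : Reads (p := p) (ch := ch) (lam := lam) (r' := r') n s hU j g m x) :
    x ∈ Rel.NV u hU j g := by
  obtain ⟨hj, hg, -, y, hy, hgy, e, -⟩ := h
  exact (hpre U hU j hj g hg x).mp ⟨y, (ProjectiveSpectrum.mem_basicOpen _ g y).mpr hgy, e⟩

lemma exists_reads {W : P.Opens} (s : Γ(On, W)) (x : X) (hx : r'.base x ∈ W) {U : Y.Opens}
    (hU : IsAffineOpen U) (hxU : p.base (r'.base x) ∈ U) :
    ∃ (j : ℕ) (g m : 𝒜.presheaf.obj (op U)),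
      Reads (p := p) (ch := ch) (lam := lam) (r' := r') n s hU j g m x := by
  obtain ⟨y, e⟩ := RelTilde.exists_point (q := p) (ch := ch) U hU (x := r'.base x) hxU
  have hy : (RelProj.emb p ch U hU).base y ∈ W := e ▸ hx
  let t : GrMod.sect (𝒜.deg U hU) (𝒜.deg U hU) (n : ℤ) (op (RelProj.emb p ch U hU ⁻¹ᵁ W)) :=
    (lam U hU).app W s
  obtain ⟨j, i, g, m, hj, hg, hm, hi, hgy, -, hv⟩ := RelTilde.exists_frac_nhd (𝒜.deg U hU)
    (𝒜.deg U hU) t ⟨y, hy⟩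
  have hi' : i = j + n := by omega
  exact ⟨j, g, m, hj, hg, hi' ▸ hm, y, hy, hgy, e, hv ⟨y, hy⟩ hgy⟩

include hL hLq hjl hP hOn hover hpre in
/-- Two representations agree near the point. -/
theorem Reads.agree {W W' : P.Opens} {s : Γ(On, W)} {s' : Γ(On, W')} {U U' : Y.Opens}
    {hU : IsAffineOpen U} {hU' : IsAffineOpen U'} {j j' : ℕ}
    {g m : 𝒜.presheaf.obj (op U)} {g' m' : 𝒜.presheaf.obj (op U')} {x : X}
    (h : Reads (p := p) (ch := ch) (lam := lam) (r' := r') n s hU j g m x)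
    (h' : Reads (p := p) (ch := ch) (lam := lam) (r' := r') n s' hU' j' g' m' x)
    (hs : ∃ (W₀ : P.Opens) (h₀ : W₀ ≤ W) (h₀' : W₀ ≤ W'), r'.base x ∈ W₀ ∧
      res On h₀ s = res On h₀' s') :
    ∃ O : X.Opens, x ∈ O ∧ ∀ (V : X.Opens), V ≤ O → ∀ (hV : V ≤ f ⁻¹ᵁ U) (hV' : V ≤ f ⁻¹ᵁ U'),
      (u.appLE U V hV).hom m * (u.appLE U' V hV').hom g' =
        (u.appLE U' V hV').hom m' * (u.appLE U V hV).hom g := by
  classical
  obtain ⟨hj, hg, hm, y, hy, hgy, e, hv⟩ := h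
  obtain ⟨hj', hg', hm', y', hy', hgy', e', hv'⟩ := h'
  obtain ⟨W₀, h₀, h₀', hxW₀, hs⟩ := hs
  obtain ⟨B, hB, bU, bV, z, hzy, hzy'⟩ := RelTilde.exists_common hP hU hU' (e.trans e'.symm)
  have hz : (RelProj.emb p ch B hB).base z = r'.base x := by
    rw [← RelTilde.emb_comap hP hU hB bU z, hzy, e]
  have hzW₀ : (RelProj.emb p ch B hB).base z ∈ W₀ := hz ▸ hxW₀
  have hyW₀ : (RelProj.emb p ch U hU).base y ∈ W₀ := e ▸ hxW₀
  have hy'W₀ : (RelProj.emb p ch U' hU').base y' ∈ W₀ := e' ▸ hxW₀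
  have k1 := (hOn.compat W₀ (res On h₀ s)).val_tr hP hU hB bU z y hzy hzW₀ hyW₀
  have k2 := (hOn.compat W₀ (res On h₀' s')).val_tr hP hU' hB bV z y' hzy' hzW₀ hy'W₀
  rw [RelTilde.Datum.IsTilde.app_res (lam := lam) h₀ s U hU y hyW₀, hv,
    RelTilde.Datum.tr_mk] at k1
  rw [RelTilde.Datum.IsTilde.app_res (lam := lam) h₀' s' U' hU' y' hy'W₀, hv',
    RelTilde.Datum.tr_mk] at k2
  rw [hs, k2] at k1
  have key := k1.symm
  let G := 𝒜.res hU hB bU.le g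
  let M := 𝒜.res hU hB bU.le m
  let G' := 𝒜.res hU' hB bV.le g'
  let M' := 𝒜.res hU' hB bV.le m'
  have hG : G ∉ z.asHomogeneousIdeal := (RelTilde.res_not_mem (b := bU) hzy).mp hgy
  have hG' : G' ∉ z.asHomogeneousIdeal := (RelTilde.res_not_mem (b := bV) hzy').mp hgy'
  obtain ⟨c, hc, hc0⟩ := (RelTilde.fr_eq_iff (𝒜.deg B hB) z hG hG').mp key
  obtain ⟨d, hcd⟩ := RelTilde.exists_cmp_not_mem (𝒜.deg B hB) hc
  have hmem : G' * M - G * M' ∈ 𝒜.deg B hB (j' + (j + n)) := by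
    refine sub_mem (SetLike.mul_mem_graded (GradedRingHom.map_mem _ hg') (GradedRingHom.map_mem _ hm)) ?_
    have := SetLike.mul_mem_graded (GradedRingHom.map_mem (𝒜.res hU hB bU.le) hg)
      (GradedRingHom.map_mem (𝒜.res hU' hB bV.le) hm')
    rwa [show j + (j' + n) = j' + (j + n) by omega] at this
  have hc1 : RelTilde.cmp (𝒜.deg B hB) c d * (G' * M - G * M') = 0 :=
    RelTilde.cmp_smul_eq_zero (𝒜.deg B hB) (𝒜.deg B hB) hmem (u := c) hc0 d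
  obtain ⟨d₀, h₀'', hd₀, hh₀, hh₀z⟩ := RelTilde.exists_pos_homog (𝒜.deg B hB) z
  let H := h₀'' * RelTilde.cmp (𝒜.deg B hB) c d
  have hHd : H ∈ 𝒜.deg B hB (d₀ + d) := SetLike.mul_mem_graded hh₀ (RelTilde.cmp_mem _ c d)
  have hH0 : H * (G' * M - G * M') = 0 := by rw [mul_assoc, hc1, mul_zero]
  have hxH : x ∈ Rel.NV u hB (d₀ + d) H :=
    (hpre B hB (d₀ + d) (by omega) H hHd x).mp
      ⟨z, (ProjectiveSpectrum.mem_basicOpen _ H z).mpr (RelTilde.not_mem_mul _ hh₀z hcd), hz⟩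
  obtain ⟨V₀, hV₀, e₀, c₀, hV₀B, hxV₀, -, he₀, hc₀, hH⟩ :=
    exists_nhd hL hLq hjl u hB hHd hxH (O := ⊤) trivial
  refine ⟨V₀, hxV₀, fun V hV hVU hVU' => ?_⟩
  have h1 := congrArg (u.appLE B V₀ hV₀B).hom hH0
  rw [map_mul, map_zero, hH, map_sub, map_mul, map_mul] at h1
  have h2 := congrArg (resL 𝒮L hV) (sub_eq_zero.mp (regular hLq hjl hV₀ he₀ hc₀ _ h1))
  have hG1 : (u.appLE B V₀ hV₀B).hom G = (u.appLE U V₀ (hV₀B.trans (f.preimage_mono bU.le))).hom g :=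
    appLE_res u bU.le hV₀B g
  have hM1 : (u.appLE B V₀ hV₀B).hom M = (u.appLE U V₀ (hV₀B.trans (f.preimage_mono bU.le))).hom m :=
    appLE_res u bU.le hV₀B m
  have hG1' : (u.appLE B V₀ hV₀B).hom G' = (u.appLE U' V₀ (hV₀B.trans (f.preimage_mono bV.le))).hom g' :=
    appLE_res u bV.le hV₀B g'
  have hM1' : (u.appLE B V₀ hV₀B).hom M' = (u.appLE U' V₀ (hV₀B.trans (f.preimage_mono bV.le))).hom m' :=
    appLE_res u bV.le hV₀B m'
  rw [hG1, hM1, hG1', hM1', map_mul, map_mul, resL_appLE, resL_appLE, resL_appLE, resL_appLE,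
    mul_comm, mul_comm ((u.appLE U V hVU).hom g)] at h2
  exact h2

variable (n) in
/-- `t` solves the equations `t · ψ g = ψ m` of all representations. -/
def Solves {W : P.Opens} (s : Γ(On, W)) {V : X.Opens} (t : Γ(CohB1.tensorPow L n, V)) : Prop :=
  ∀ x ∈ V, ∀ (U : Y.Opens) (hU : IsAffineOpen U) (j : ℕ) (g m : 𝒜.presheaf.obj (op U)),
    Reads (p := p) (ch := ch) (lam := lam) (r' := r') n s hU j g m x →
    ∃ (V' : X.Opens) (h' : V' ≤ V) (hVU : V' ≤ f ⁻¹ᵁ U), x ∈ V' ∧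
      theta jl n V' (res _ h' t) * (u.appLE U V' hVU).hom g = (u.appLE U V' hVU).hom m

include hL hLq hjl hpre hover in
/-- Solutions of one family of equations are unique. -/
theorem Solves.unique {W : P.Opens} {s : Γ(On, W)} {V : X.Opens} (hVW : V ≤ r' ⁻¹ᵁ W)
    {t t' : Γ(CohB1.tensorPow L n, V)}
    (h : Solves (jl := jl) (u := u) (p := p) (ch := ch) (lam := lam) (r' := r') n s t)
    (h' : Solves (jl := jl) (u := u) (p := p) (ch := ch) (lam := lam) (r' := r') n s t') : t = t' := by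
  refine QC.section_eq_of_locally fun x hx => ?_
  obtain ⟨U, hU, hxU, -⟩ := exists_isAffineOpen_mem_and_subset (x := p.base (r'.base x)) (U := ⊤) trivial
  obtain ⟨j, g, m, hR⟩ := exists_reads (p := p) (ch := ch) (lam := lam) (r' := r') s x (hVW hx) hU hxU
  obtain ⟨V₁, h₁, hU₁, hx₁, e₁⟩ := h x hx U hU j g m hR
  obtain ⟨V₂, h₂, hU₂, hx₂, e₂⟩ := h' x hx U hU j g m hR
  obtain ⟨V₀, hV₀, e, c, hU₀, hx₀, hle, he, hc, hg⟩ :=
    exists_nhd hL hLq hjl u hU hR.2.1 (hR.mem_NV u hpre) (O := V₁ ⊓ V₂) ⟨hx₁, hx₂⟩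
  have a₁ : V₀ ≤ V₁ := hle.trans inf_le_left
  have a₂ : V₀ ≤ V₂ := hle.trans inf_le_right
  refine ⟨V₀, a₁.trans h₁, hx₀, theta_injective hL hLq hjl n V₀ (sub_eq_zero.mp ?_)⟩
  refine regular hLq hjl hV₀ he hc j ?_
  have f₁ := congrArg (resL 𝒮L a₁) e₁
  have f₂ := congrArg (resL 𝒮L a₂) e₂
  rw [map_mul, theta_res, res_res, resL_appLE, resL_appLE] at f₁ f₂
  rw [← hg, mul_sub, mul_comm, f₁, mul_comm, f₂, sub_self]

include hL hLq hjl hP hOn hover hpre in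
/-- Solutions exist near each point. -/
theorem exists_solves {W : P.Opens} (s : Γ(On, W)) (x : X) (hx : r'.base x ∈ W) :
    ∃ (V : X.Opens) (_ : V ≤ r' ⁻¹ᵁ W) (t : Γ(CohB1.tensorPow L n, V)), x ∈ V ∧
      Solves (jl := jl) (u := u) (p := p) (ch := ch) (lam := lam) (r' := r') n s t := by
  obtain ⟨U, hU, hxU, -⟩ := exists_isAffineOpen_mem_and_subset (x := p.base (r'.base x)) (U := ⊤) trivial
  obtain ⟨y, ey⟩ := RelTilde.exists_point (q := p) (ch := ch) U hU (x := r'.base x) hxU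
  have hy : (RelProj.emb p ch U hU).base y ∈ W := ey ▸ hx
  let σ : GrMod.sect (𝒜.deg U hU) (𝒜.deg U hU) (n : ℤ) (op (RelProj.emb p ch U hU ⁻¹ᵁ W)) :=
    (lam U hU).app W s
  obtain ⟨j, i, g, m, hj, hg, hm, hi, hgy, -, hv⟩ := RelTilde.exists_frac_nhd (𝒜.deg U hU)
    (𝒜.deg U hU) σ ⟨y, hy⟩
  obtain rfl : i = j + n := by omega
  have hxD : r'.base x ∈ Rel.DPlus p ch hU g :=
    ⟨y, (ProjectiveSpectrum.mem_basicOpen _ g y).mpr hgy, ey⟩
  obtain ⟨V, hV, e, c, hVU, hxV, hle, he, hc, hgV⟩ := exists_nhd hL hLq hjl u hU hg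
    ((hpre U hU j hj g hg x).mp hxD) (O := r' ⁻¹ᵁ (W ⊓ Rel.DPlus p ch hU g)) ⟨hx, hxD⟩
  obtain ⟨cm, hcm'⟩ := exists_coeff hLq hjl hV he (u.map_mem U hU V hV hVU hm)
  have hcm : (u.appLE U V hVU).hom m = strL 𝒮L V cm * jL jl V e ^ (j + n) := hcm'
  refine ⟨V, fun z hz => (hle hz).1, ((hc.unit⁻¹ : Γ(X, V)ˣ) * cm : Γ(X, V)) • pw e n, hxV, ?_⟩
  have heq : theta jl n V (((hc.unit⁻¹ : Γ(X, V)ˣ) * cm : Γ(X, V)) • pw e n) *
      (u.appLE U V hVU).hom g = (u.appLE U V hVU).hom m := by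
    rw [theta_smul, theta_pw, hgV, hcm, map_mul, pow_add]
    have h1 : strL 𝒮L V ((hc.unit⁻¹ : Γ(X, V)ˣ) : Γ(X, V)) * strL 𝒮L V c = 1 := by
      rw [← map_mul, IsUnit.val_inv_mul, map_one]
    linear_combination (strL 𝒮L V cm * jL jl V e ^ n * jL jl V e ^ j) * h1
  intro z hz U' hU' j' g' m' hR
  obtain ⟨y', hy', hyz⟩ : ∃ y' : ProjectiveSpectrum (𝒜.deg U hU),
      (RelProj.emb p ch U hU).base y' ∈ W ∧ (RelProj.emb p ch U hU).base y' = r'.base z ∧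
        g ∉ y'.asHomogeneousIdeal := by
    obtain ⟨y', hy', e'⟩ := (hle hz).2
    exact ⟨y', e' ▸ (hle hz).1, e', (ProjectiveSpectrum.mem_basicOpen _ g y').mp hy'⟩
  have hR₀ : Reads (p := p) (ch := ch) (lam := lam) (r' := r') n s hU j g m z :=
    ⟨hj, hg, hm, y', hy', hyz.2, hyz.1, hv ⟨y', hy'⟩ hyz.2⟩
  obtain ⟨O, hzO, hO⟩ := hR₀.agree hL hLq hjl u hP hOn hover hpre hR
    ⟨W, le_rfl, le_rfl, (hle hz).1, rfl⟩
  have hzU' : z ∈ f ⁻¹ᵁ U' := NV_le u hU' j' g' (hR.mem_NV u hpre)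
  obtain ⟨V₀, hV₀, e₀, c₀, hU₀, hz₀, hle₀, he₀, hc₀, hg₀⟩ := exists_nhd hL hLq hjl u hU hg
    (hR₀.mem_NV u hpre) (O := V ⊓ O ⊓ f ⁻¹ᵁ U') ⟨⟨hz, hzO⟩, hzU'⟩
  have a₁ : V₀ ≤ V := fun w hw => (hle₀ hw).1.1
  have a₂ : V₀ ≤ O := fun w hw => (hle₀ hw).1.2
  have a₃ : V₀ ≤ f ⁻¹ᵁ U' := fun w hw => (hle₀ hw).2
  refine ⟨V₀, a₁, a₃, hz₀, sub_eq_zero.mp (regular hLq hjl hV₀ he₀ hc₀ j ?_)⟩
  have f₁ := congrArg (resL 𝒮L a₁) heq
  rw [map_mul, theta_res, resL_appLE, resL_appLE] at f₁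
  rw [← hg₀]
  linear_combination (u.appLE U' V₀ a₃).hom g' * f₁ + hO V₀ a₂ hU₀ a₃

include hL hLq hjl hP hOn hover hpre in
theorem exists_unique_solves {W : P.Opens} (s : Γ(On, W)) :
    ∃! t : Γ(CohB1.tensorPow L n, r' ⁻¹ᵁ W),
      Solves (jl := jl) (u := u) (p := p) (ch := ch) (lam := lam) (r' := r') n s t := by
  choose V hV t hxV ht using fun x : (r' ⁻¹ᵁ W : X.Opens) =>
    exists_solves hL hLq hjl u hP hOn hover hpre s x.1 x.2
  have hres : ∀ (x : (r' ⁻¹ᵁ W : X.Opens)) (V' : X.Opens) (h : V' ≤ V x),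
      Solves (jl := jl) (u := u) (p := p) (ch := ch) (lam := lam) (r' := r') n s (res _ h (t x)) := by
    intro x V' h z hz U hU j g m hR
    obtain ⟨V₁, h₁, hU₁, hz₁, e₁⟩ := ht x z (h hz) U hU j g m hR
    refine ⟨V₁ ⊓ V', inf_le_right, inf_le_left.trans hU₁, ⟨hz₁, hz⟩, ?_⟩
    have f₁ := congrArg (resL 𝒮L (inf_le_left : V₁ ⊓ V' ≤ V₁)) e₁
    rw [map_mul, theta_res, resL_appLE, resL_appLE, res_res] at f₁
    rw [res_res]
    exact f₁
  obtain ⟨T, hT, -⟩ := TopCat.Sheaf.existsUnique_gluing' (QC.abSheaf (CohB1.tensorPow L n))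
    V (r' ⁻¹ᵁ W) (fun x => homOfLE (hV x)) (fun x hx => Opens.mem_iSup.mpr ⟨⟨x, hx⟩, hxV _⟩) t
    (fun x x' => Solves.unique hL hLq hjl u hover hpre (inf_le_left.trans (hV x))
      (hres x _ inf_le_left) (hres x' _ inf_le_right))
  have hT' : Solves (jl := jl) (u := u) (p := p) (ch := ch) (lam := lam) (r' := r') n s T := by
    intro z hz U hU j g m hR
    obtain ⟨V₁, h₁, hU₁, hz₁, e₁⟩ := ht ⟨z, hz⟩ z (hxV _) U hU j g m hR
    refine ⟨V₁, h₁.trans (hV _), hU₁, hz₁, ?_⟩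
    rw [← res_res _ h₁ (hV ⟨z, hz⟩), show res _ (hV ⟨z, hz⟩) T = t ⟨z, hz⟩ from hT ⟨z, hz⟩]
    exact e₁
  exact ⟨T, hT', fun T' hT'' => Solves.unique hL hLq hjl u hover hpre le_rfl hT'' hT'⟩

set_option maxHeartbeats 800000 in
include hL hLq hjl hP hOn hover hpre hkey in
/-- The comparison map. -/
theorem exists_comparison : ∃ θ : On ⟶ (Scheme.Modules.pushforward r').obj (CohB1.tensorPow L n),
    ∀ (W : P.Opens) (s : Γ(On, W)),
      Solves (jl := jl) (u := u) (p := p) (ch := ch) (lam := lam) (r' := r') n s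
        (show Γ(CohB1.tensorPow L n, r' ⁻¹ᵁ W) from θ.app W s) := by
  choose F hF hFu using fun (W : P.Opens) (s : Γ(On, W)) =>
    exists_unique_solves hL hLq hjl u hP hOn hover hpre s
  have hxb : ∀ x : X, p.base (r'.base x) = f.base x := fun x =>
    congrArg (fun k : X ⟶ Y => k.base x) hover
  have hadd : ∀ (W : P.Opens) (s s' : Γ(On, W)), F W (s + s') = F W s + F W s' := by
    intro W s s'
    refine (hFu W (s + s') _ ?_).symm
    intro x hx U hU j g m hR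
    have hxU : p.base (r'.base x) ∈ U := by rw [hxb]; exact NV_le u hU j g (hR.mem_NV u hpre)
    obtain ⟨j₁, g₁, m₁, h₁⟩ := exists_reads (p := p) (ch := ch) (lam := lam) (r' := r') s x hx hU hxU
    obtain ⟨j₂, g₂, m₂, h₂⟩ := exists_reads (p := p) (ch := ch) (lam := lam) (r' := r') s' x hx hU hxU
    obtain ⟨V₁, b₁, c₁, x₁, q₁⟩ := hF W s x hx U hU j₁ g₁ m₁ h₁
    obtain ⟨V₂, b₂, c₂, x₂, q₂⟩ := hF W s' x hx U hU j₂ g₂ m₂ h₂
    have hR' : Reads (p := p) (ch := ch) (lam := lam) (r' := r') n (s + s') hU (j₁ + j₂) (g₁ * g₂)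
        (g₂ * m₁ + g₁ * m₂) x := by
      obtain ⟨hj₁, hg₁, hm₁, y, hy, hgy, e, hv⟩ := h₁
      obtain ⟨hj₂, hg₂, hm₂, y₂, hy₂, hgy₂, e₂, hv₂⟩ := h₂
      obtain rfl : y = y₂ :=
        (RelProj.emb p ch U hU).isOpenEmbedding.injective (e.trans e₂.symm)
      refine ⟨by omega, SetLike.mul_mem_graded hg₁ hg₂, add_mem ?_ ?_, y, hy,
        RelTilde.not_mem_mul _ hgy hgy₂, e, ?_⟩
      · have := SetLike.mul_mem_graded hg₂ hm₁
        rwa [show j₂ + (j₁ + n) = j₁ + j₂ + n by omega] at this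
      · have := SetLike.mul_mem_graded hg₁ hm₂
        rwa [show j₁ + (j₂ + n) = j₁ + j₂ + n by omega] at this
      · rw [map_add]
        refine (congrArg₂ (· + ·) hv hv₂).trans ?_
        exact RelTilde.fr_add (𝒜.deg U hU) y hgy hgy₂
    obtain ⟨O, hxO, hO⟩ := hR.agree hL hLq hjl u hP hOn hover hpre hR'
      ⟨W, le_rfl, le_rfl, hx, rfl⟩
    obtain ⟨V₀, hV₀, e₀, c₀, hU₀, hx₀, hle₀, he₀, hc₀, hg₀⟩ := exists_nhd hL hLq hjl u hU
      hR'.2.1 (hR'.mem_NV u hpre) (O := V₁ ⊓ V₂ ⊓ O) ⟨⟨x₁, x₂⟩, hxO⟩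
    have a₁ : V₀ ≤ V₁ := fun w hw => (hle₀ hw).1.1
    have a₂ : V₀ ≤ V₂ := fun w hw => (hle₀ hw).1.2
    refine ⟨V₀, a₁.trans b₁, hU₀, hx₀, sub_eq_zero.mp (regular hLq hjl hV₀ he₀ hc₀ (j₁ + j₂) ?_)⟩
    have f₁ := congrArg (resL 𝒮L a₁) q₁
    have f₂ := congrArg (resL 𝒮L a₂) q₂
    rw [map_mul, theta_res, resL_appLE, resL_appLE, res_res] at f₁ f₂
    have hO' := hO V₀ (hle₀.trans inf_le_right) hU₀ hU₀
    rw [map_mul, map_add, map_mul, map_mul] at hO'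
    rw [← hg₀, map_mul, map_add, show theta jl n V₀ (res _ (a₁.trans b₁) (F W s) + res _ (a₁.trans b₁) (F W s')) =
      theta jl n V₀ (res _ (a₁.trans b₁) (F W s)) + theta jl n V₀ (res _ (a₁.trans b₁) (F W s')) from
      map_add ((powTo jl n).app V₀).hom _ _]
    linear_combination (u.appLE U V₀ hU₀).hom g * (u.appLE U V₀ hU₀).hom g₂ * f₁ +
      (u.appLE U V₀ hU₀).hom g * (u.appLE U V₀ hU₀).hom g₁ * f₂ - hO'
  have hres : ∀ (W' W : P.Opens) (h : W' ≤ W) (s : Γ(On, W)),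
      F W' (res On h s) = res _ (r'.preimage_mono h) (F W s) := by
    intro W' W h s
    refine (hFu W' (res On h s) _ ?_).symm
    intro x hx U hU j g m hR
    obtain ⟨hj, hg, hm, y, hy, hgy, e, hv⟩ := hR
    rw [RelTilde.Datum.IsTilde.app_res (lam := lam) h s U hU y hy] at hv
    obtain ⟨V₁, b₁, c₁, x₁, q₁⟩ := hF W s x (r'.preimage_mono h hx) U hU j g m
      ⟨hj, hg, hm, y, h hy, hgy, e, hv⟩
    refine ⟨V₁ ⊓ r' ⁻¹ᵁ W', inf_le_right, inf_le_left.trans c₁, ⟨x₁, hx⟩, ?_⟩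
    have f₁ := congrArg (resL 𝒮L (inf_le_left : V₁ ⊓ r' ⁻¹ᵁ W' ≤ V₁)) q₁
    rw [map_mul, theta_res, resL_appLE, resL_appLE, res_res] at f₁
    rw [res_res]
    exact f₁
  have hsmul : ∀ (W : P.Opens) (c : Γ(P, W)) (s : Γ(On, W)),
      F W (c • s) = (r'.app W).hom c • F W s := by
    intro W c s
    refine (hFu W (c • s) _ ?_).symm
    intro x hx U hU j g m hR
    have hR₀ := hR
    obtain ⟨hj, hg, hm, y, hy, hgy, e, hv⟩ := hR
    let E := RelProj.emb p ch U hU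
    obtain ⟨d, g₀, hd, hg₀, hy₀, hD⟩ := exists_basicOpen_le (O := E ⁻¹ᵁ W) (y := y) hy
    have hD' : Rel.DPlus p ch hU g₀ ≤ W := (E.image_mono hD).trans (E.image_preimage_le _)
    let c' : Γ(P, Rel.DPlus p ch hU g₀) := resO P hD' c
    obtain ⟨k, a, ha, -, hk⟩ := RelTilde.exists_away (𝒜.deg U hU) hg₀ hd
      ((E.appLE (Rel.DPlus p ch hU g₀) (Proj.basicOpen (𝒜.deg U hU) g₀) (E.preimage_image_eq _).ge).hom c')
    obtain ⟨j₁, g₁, m₁, h₁⟩ := exists_reads (p := p) (ch := ch) (lam := lam) (r' := r') s x hx hU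
      (show p.base (r'.base x) ∈ U by rw [hxb]; exact NV_le u hU j g (hR₀.mem_NV u hpre))
    obtain ⟨V₁, b₁, c₁, x₁, q₁⟩ := hF W s x hx U hU j₁ g₁ m₁ h₁
    have hR' : Reads (p := p) (ch := ch) (lam := lam) (r' := r') n (c • s) hU (k • d + j₁)
        (g₀ ^ k * g₁) (a * m₁) x := by
      obtain ⟨hj₁, hg₁, hm₁, y₁, hy₁, hgy₁, e₁, hv₁⟩ := h₁
      obtain rfl : y = y₁ := E.isOpenEmbedding.injective (e.trans e₁.symm)
      refine ⟨Nat.lt_of_lt_of_le hj₁ (Nat.le_add_left _ _),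
        SetLike.mul_mem_graded (SetLike.pow_mem_graded k hg₀) hg₁, ?_, y, hy,
        RelTilde.not_mem_mul _ (RelTilde.not_mem_pow _ hy₀ k) hgy₁, e, ?_⟩
      · rw [Nat.add_assoc]; exact SetLike.mul_mem_graded ha hm₁
      · refine (congrArg (fun t => GrMod.val (V := E ⁻¹ᵁ W) t ⟨y, hy⟩) ((lam U hU).app_smul c s)).trans ?_
        refine (GrMod.coe_smul_val (n : ℤ) y _ _).trans ?_
        have hc : (((E.app W).hom c : GrTwist.O (𝒜 := 𝒜.deg U hU) (op (E ⁻¹ᵁ W))).1 ⟨y, hy⟩).val =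
            Localization.mk a ⟨g₀ ^ k, RelTilde.not_mem_pow _ hy₀ k⟩ := by
          have h1 : (E.appLE (Rel.DPlus p ch hU g₀) (Proj.basicOpen (𝒜.deg U hU) g₀)
              (E.preimage_image_eq _).ge).hom c' = resO (Proj (𝒜.deg U hU)) hD ((E.app W).hom c) := by
            change (P.presheaf.map (homOfLE hD').op ≫ E.appLE _ _ _).hom c = _
            rw [Scheme.Hom.map_appLE]
            rfl
          rw [h1] at hk
          exact congrArg (fun q : Γ(Proj (𝒜.deg U hU), Proj.basicOpen (𝒜.deg U hU) g₀) =>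
            ((q : GrTwist.O (𝒜 := 𝒜.deg U hU) (op (Proj.basicOpen (𝒜.deg U hU) g₀))).1 ⟨y, hy₀⟩).val) hk
        refine (congrArg₂ (· • ·) hc hv₁).trans ?_
        exact LocalizedModule.mk_smul_mk _ _ _ _
    obtain ⟨O, hxO, hO⟩ := hR₀.agree hL hLq hjl u hP hOn hover hpre hR'
      ⟨W, le_rfl, le_rfl, hx, rfl⟩
    have hxD : r'.base x ∈ Rel.DPlus p ch hU g₀ :=
      ⟨y, (ProjectiveSpectrum.mem_basicOpen _ g₀ y).mpr hy₀, e⟩
    obtain ⟨V₀, hV₀, e₀, c₀, hU₀, hx₀, hle₀, he₀, hc₀, hg₀'⟩ := exists_nhd hL hLq hjl u hU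
      hR'.2.1 (hR'.mem_NV u hpre) (O := V₁ ⊓ O ⊓ r' ⁻¹ᵁ Rel.DPlus p ch hU g₀) ⟨⟨x₁, hxO⟩, hxD⟩
    have a₁ : V₀ ≤ V₁ := fun w hw => (hle₀ hw).1.1
    have a₃ : V₀ ≤ r' ⁻¹ᵁ Rel.DPlus p ch hU g₀ := fun w hw => (hle₀ hw).2
    obtain ⟨N, hN⟩ := hkey U hU d hd g₀ hg₀ V₀ hV₀ hU₀ a₃ k a ha c' hk
    have hc' : (r'.appLE (Rel.DPlus p ch hU g₀) V₀ a₃).hom c' =
        resO X (a₁.trans b₁) ((r'.app W).hom c) := by
      change (P.presheaf.map (homOfLE hD').op ≫ r'.appLE _ _ a₃).hom c = _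
      rw [Scheme.Hom.map_appLE]
      rfl
    refine ⟨V₀, a₁.trans b₁, hU₀, hx₀, sub_eq_zero.mp ?_⟩
    have f₁ := congrArg (resL 𝒮L a₁) q₁
    rw [map_mul, theta_res, resL_appLE, resL_appLE, res_res] at f₁
    have hO' := hO V₀ (fun w hw => (hle₀ hw).1.2) hU₀ hU₀
    rw [map_mul, map_mul, map_pow] at hO'
    rw [map_mul, map_pow] at hg₀'
    rw [res_smul, theta_smul, ← hc']
    obtain ⟨e₂, c₂, he₂, hc₂, hg₂⟩ : ∃ (e₂ : Γ(L, V₀)) (c₂ : Γ(X, V₀)), IsGen e₂ ∧ IsUnit c₂ ∧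
        (u.appLE U V₀ hU₀).hom g₀ ^ N * (strL 𝒮L V₀ c₀ * jL jl V₀ e₀ ^ (k • d + j₁)) =
          strL 𝒮L V₀ c₂ * jL jl V₀ e₂ ^ (N * d + (k • d + j₁)) := by
      obtain ⟨c₁', hc₁''⟩ := exists_coeff hLq hjl hV₀ he₀ (u.map_mem U hU V₀ hV₀ hU₀ hg₀)
      have hc₁' : (u.appLE U V₀ hU₀).hom g₀ = strL 𝒮L V₀ c₁' * jL jl V₀ e₀ ^ d := hc₁''
      obtain ⟨V₃, hV₃, h₃, hx₃, hs⟩ := (mem_NV_iff u hU d g₀ x).mp
        ((hpre U hU d hd g₀ hg₀ x).mp hxD)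
      refine ⟨e₀, c₁' ^ N * c₀, he₀, ?_, by rw [hc₁', map_mul, map_pow]; ring⟩
      refine (IsUnit.pow N ?_).mul hc₀
      suffices hb : V₀ ≤ X.basicOpen c₁' by
        have h1 := (RingedSpace.isUnit_res_basicOpen X.toLocallyRingedSpace.toRingedSpace c₁').map (resO X hb)
        have h2 : resO X hb (resO X (X.basicOpen_le c₁') c₁') = c₁' := by
          have : resO X hb (resO X (X.basicOpen_le c₁') c₁') = resO X (le_refl V₀) c₁' := by
            change (X.presheaf.map _ ≫ X.presheaf.map _).hom c₁' = _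
            rw [← Functor.map_comp]
            rfl
          rw [this, QC.resO_self]
        exact h2 ▸ h1
      intro w hw
      obtain ⟨V₄, hV₄, h₄, hw₄, hs₄⟩ := (mem_NV_iff u hU d g₀ w).mp
        ((hpre U hU d hd g₀ hg₀ w).mp (a₃ hw))
      exact mem_basicOpen_of_span hLq hjl hV₀ he₀ hV₄ ((u.app U).hom g₀) h₄ hU₀ c₁' hc₁' hw₄ hw hs₄
    refine regular hLq hjl hV₀ he₂ hc₂ (N * d + (k • d + j₁)) ?_
    rw [← hg₂, ← hg₀']
    linear_combination ((u.appLE U V₀ hU₀).hom g₁ * theta jl n V₀ (res _ (a₁.trans b₁) (F W s)) *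
        (u.appLE U V₀ hU₀).hom g) * hN +
      ((u.appLE U V₀ hU₀).hom g₀ ^ N * (u.appLE U V₀ hU₀).hom a * (u.appLE U V₀ hU₀).hom g) * f₁ -
      (u.appLE U V₀ hU₀).hom g₀ ^ N * hO'
  refine ⟨⟨PresheafOfModules.homMk
    { app := fun W => AddCommGrpCat.ofHom (X := Γ(On, W.unop))
        (Y := Γ(CohB1.tensorPow L n, r' ⁻¹ᵁ W.unop))
        (AddMonoidHom.mk' (F W.unop) (hadd W.unop))
      naturality := fun W W' e => by
        ext s
        exact hres W'.unop W.unop (leOfHom e.unop) s }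
    fun W (c : Γ(P, W.unop)) (s : Γ(On, W.unop)) => hsmul W.unop c s⟩, fun W s => hF W s⟩

end Groth.Agent.SymAlg.AmpleTwist
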