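import Groth.Agent.SymAlg.AmpleTwist.Key
import Groth.Agent.SymAlg.AmpleTwist.Map

/-!
The inverse image of `O(n)` along `r_{L,σ}` for a relatively ample `L`.
-/

set_option autoImplicit false
set_option backward.isDefEq.respectTransparency false
set_option linter.style.haveILetI false
set_option linter.unusedSectionVars false

universe u

open CategoryTheory CategoryTheory.Limits DirectSum AlgebraicGeometry TopologicalSpace Opposite
open scoped HomogeneousIdeal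
open Groth.Agent.QC (res resO res_res res_self res_smul app_res)

noncomputable section

namespace Groth.Agent.SymAlg.AmpleTwist

open Groth.Agent
open TMul (IsGen pw)

variable {X Y : Scheme.{u}} {f : X ⟶ Y} [QuasiCompact f] {L : X.Modules} (hL : PicF.IsInvertible L)
  (hLq : Coh.IsQCoh L) {𝒜 : RelProj.QCGrAlg Y} {𝒮L : RelProj.QCGrAlg X} {jl : L ⟶ 𝒮L.toModule}
  (hjl : RelProj.IsGrSymAlg L 𝒮L jl) (u : RelProj.QGrHom f 𝒜 𝒮L)
  (hamp : RelAmple.IsRelAmple f L)
  (hu : ∀ (U : Y.Opens), IsAffineOpen U → Function.Bijective (u.app U).hom)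

include hL hLq hjl hamp hu in
/-- Near each point there are non-vanishing elements in consecutive degrees. -/
theorem exists_consecutive {U : Y.Opens} (hU : IsAffineOpen U) {x : X} (hxU : f.base x ∈ U) :
    ∃ (j : ℕ) (q b : 𝒜.presheaf.obj (op U)), 0 < j ∧ q ∈ 𝒜.deg U hU j ∧
      b ∈ 𝒜.deg U hU (j + 1) ∧ x ∈ Rel.NV u hU j q ∧ x ∈ Rel.NV u hU (j + 1) b := by
  classical
  obtain ⟨n₀, a, hn₀, ha, hO, hxO⟩ := exists_element hL hLq hjl u hamp hU (hu U hU) hxU
  let O := Rel.NV u hU n₀ a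
  have hOZ : O ≤ f ⁻¹ᵁ U := NV_le u hU n₀ a
  obtain ⟨t, e, hxt, he⟩ := exists_triv_basic hL hO hxO
  haveI : L.IsQuasicoherent := hLq
  obtain ⟨k₁, s₁, hs₁⟩ := (QC.isLoc_of_isQCoh hO (M := L)).exists_extend t e
  have hgen₁ : IsGen (res L (X.basicOpen_le t) s₁) := by
    rw [hs₁]
    exact TMul.isGen_smul he
      ((RingedSpace.isUnit_res_basicOpen X.toLocallyRingedSpace.toRingedSpace t).pow k₁)
  have hZ : IsCompact ((f ⁻¹ᵁ U : X.Opens) : Set X) := f.isCompact_preimage hU.isCompact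
  have hqs : IsQuasiSeparated ((f ⁻¹ᵁ U : X.Opens) : Set X) := by
    haveI := TMul.isSeparated_of_isAmple (hamp.2 ⟨U, hU⟩)
    exact (isQuasiSeparated_iff_quasiSeparatedSpace _ (f ⁻¹ᵁ U).2).mpr
      (inferInstanceAs (QuasiSeparatedSpace (f ⁻¹ᵁ U).toScheme))
  obtain ⟨k, g, hg⟩ := exists_pow_mul_extend hL hLq hjl ((u.app U).hom a)
    (fun V hV h => resL_uapp_mem u hU ha V hV h) hOZ (mem_NV_iff u hU n₀ a) hZ hqs
    (jL jl O s₁)
  obtain ⟨s, rfl⟩ := (hu U hU).2 g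
  let c₁ : 𝒜.presheaf.obj (op U) := (decompose (𝒜.deg U hU) s (k * n₀ + 1) : 𝒜.presheaf.obj (op U))
  let q := a ^ (k + 1)
  let b := a * c₁
  have hq : q ∈ 𝒜.deg U hU ((k + 1) * n₀) := by
    have := SetLike.pow_mem_graded (A := 𝒜.deg U hU) (k + 1) ha
    rwa [smul_eq_mul] at this
  have hb : b ∈ 𝒜.deg U hU ((k + 1) * n₀ + 1) := by
    have := SetLike.mul_mem_graded ha (SetLike.coe_mem (decompose (𝒜.deg U hU) s (k * n₀ + 1)))
    rwa [show n₀ + (k * n₀ + 1) = (k + 1) * n₀ + 1 by ring] at this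
  obtain ⟨V, hV, eV, cV, hVU, hxV, hle, heV, hcV, haV⟩ := exists_nhd hL hLq hjl u hU ha hxO
    (O := X.basicOpen t) hxt
  have hVO : V ≤ O := hle.trans (X.basicOpen_le t)
  obtain ⟨c, hc⟩ := (heV V le_rfl).2 (res L hVO s₁)
  simp only [res_self] at hc
  have hcu : IsUnit c := by
    have h1 : IsGen (res L hVO s₁) := by
      rw [← res_res L hle (X.basicOpen_le t)]
      exact hgen₁.res hle
    obtain ⟨d, hd⟩ := (h1 V le_rfl).2 eV
    simp only [res_self] at hd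
    refine IsUnit.of_mul_eq_one d ((heV V le_rfl).1 ?_)
    simp only [res_self, one_smul]
    rw [mul_comm, mul_smul, hc, hd]
  have hψs : (u.appLE U V hVU).hom s =
      (u.appLE U V hVU).hom a ^ k * (strL 𝒮L V c * jL jl V eV) := by
    have h1 := congrArg (resL 𝒮L hVO) hg
    rw [map_mul, map_pow, resL_resL, resL_jL, resL_resL, ← hc,
      show jL jl V (c • eV) = strL 𝒮L V c * jL jl V eV from Scheme.Modules.Hom.app_smul jl c eV] at h1
    exact h1
  have hψc : (u.appLE U V hVU).hom c₁ =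
      strL 𝒮L V (cV ^ k * c) * jL jl V eV ^ (k * n₀ + 1) := by
    have h1 : (u.appLE U V hVU).hom s = strL 𝒮L V (cV ^ k * c) * jL jl V eV ^ (k * n₀ + 1) := by
      rw [hψs, haV, map_mul, map_pow]; ring
    change u.gradedAt U hU V hV hVU c₁ = _
    rw [GradedRingHom.map_directSumDecompose (f := u.gradedAt U hU V hV hVU),
      show u.gradedAt U hU V hV hVU s = _ from h1,
      decompose_of_mem_same _ (mem_deg_mul_pow hjl hV (cV ^ k * c) (k * n₀ + 1))]
  have nv : ∀ (N : ℕ) (z : 𝒜.presheaf.obj (op U)) (cz : Γ(X, V)), IsUnit cz →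
      (u.appLE U V hVU).hom z = strL 𝒮L V cz * jL jl V eV ^ N → x ∈ Rel.NV u hU N z := by
    intro N z cz hcz hz
    have hb : X.basicOpen cz = V := Scheme.basicOpen_of_isUnit X hcz
    refine (mem_NV_iff u hU N z x).mpr ⟨X.basicOpen cz, hV.basicOpen cz,
      (X.basicOpen_le cz).trans hVU, hb.ge hxV, ?_⟩
    have h1 := subset_span_basicOpen hLq hjl hV heV N cz
    rw [← hz, resL_appLE] at h1
    exact h1
  refine ⟨(k + 1) * n₀, q, b, Nat.mul_pos k.succ_pos hn₀, hq, hb, nv _ q (cV ^ (k + 1))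
    (hcV.pow _) ?_, nv _ b (cV ^ (k + 1) * c) ((hcV.pow _).mul hcu) ?_⟩
  · simp only [q]; rw [map_pow, haV, map_pow]; ring
  · simp only [b]; rw [map_mul, haV, hψc, map_mul, map_mul, map_pow, map_pow]; ring

variable {P PL : Scheme.{u}} {p : P ⟶ Y}
  {ch : ∀ (U : Y.Opens) (hU : IsAffineOpen U), ((p ⁻¹ᵁ U : P.Opens) : Scheme.{u}) ≅ Proj (𝒜.deg U hU)}
  (hP : RelProj.IsRelProj 𝒜 p ch) {pL : PL ⟶ X}
  {chartL : ∀ (U : X.Opens) (hU : IsAffineOpen U), ((pL ⁻¹ᵁ U : PL.Opens) : Scheme.{u}) ≅ Proj (𝒮L.deg U hU)}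
  (hPL : RelProj.IsRelProj 𝒮L pL chartL)
  {r : ((RelProj.domQ u pL chartL : PL.Opens) : Scheme.{u}) ⟶ P}
  (hr : RelProj.IsProjQMapOn u p ch pL chartL (RelProj.domQ u pL chartL) r)

set_option maxHeartbeats 800000 in
include hL hLq hjl hamp hu hP hPL hr in
/-- `r^* O(n) ≅ L^{⊗ n}`. -/
theorem nonempty_iso {n : ℕ} {On : P.Modules}
    {lam : ∀ (U : Y.Opens) (hU : IsAffineOpen U), On ⟶ (RelTilde.Datum.self 𝒜).E p ch (n : ℤ) U hU}
    (hOn : (RelTilde.Datum.self 𝒜).IsTilde p ch (n : ℤ) On lam) :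
    Nonempty ((Scheme.Modules.pullback r).obj On ≅
      (Scheme.Modules.pullback ((RelProj.domQ u pL chartL).ι ≫ pL)).obj (CohB1.tensorPow L n)) := by
  have htop : RelProj.domQ u pL chartL = ⊤ := domQ_eq_top_of_ample hL hLq hjl u hPL hamp hu
  haveI : IsIso (RelProj.domQ u pL chartL).ι := by
    rw [htop, ← Scheme.topIso_hom]; infer_instance
  haveI := isIso_pL hL hLq hjl hPL
  let ι' := (RelProj.domQ u pL chartL).ι ≫ pL
  let r' : X ⟶ P := inv ι' ≫ r
  have hr' : r = ι' ≫ r' := (IsIso.hom_inv_id_assoc ι' r).symm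
  have hover : r' ≫ p = f := by
    have := RelProjLib.qmap_over u hP hPL hr
    rw [← cancel_epi ι', ← Category.assoc, ← hr', this, Category.assoc]
  have hpre : ∀ (U : Y.Opens) (hU : IsAffineOpen U) (j : ℕ), 0 < j → ∀ g ∈ 𝒜.deg U hU j, ∀ x : X,
      r'.base x ∈ Rel.DPlus p ch hU g ↔ x ∈ Rel.NV u hU j g := by
    intro U hU j hj g hg x
    obtain ⟨z, hz, hzx⟩ : ∃ z, (inv ι').base x = z ∧ pL.base ((RelProj.domQ u pL chartL).ι.base z) = x :=
      ⟨_, rfl, congrArg (fun k : X ⟶ X => k.base x) (IsIso.inv_hom_id ι')⟩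
    have h := Rel.mem_preimage_basicOpen_iff hL hLq hjl u hPL hr hU hP hj hg
      ((RelProj.domQ u pL chartL).ι.base z)
    rw [hzx] at h
    constructor
    · intro h1
      obtain ⟨V, hxV, hV⟩ := h.mp ⟨z, (show r.base z ∈ _ by rw [← hz]; exact h1), rfl⟩
      exact Opens.mem_iSup.mpr ⟨⟨V, hV⟩, hxV⟩
    · intro h1
      obtain ⟨⟨V, hV⟩, hxV⟩ := Opens.mem_iSup.mp h1
      obtain ⟨w, hw, e⟩ := h.mpr ⟨V, hxV, hV⟩
      rw [(RelProj.domQ u pL chartL).ι.isOpenEmbedding.injective e, ← hz] at hw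
      exact hw
  have hrι : r = (RelProj.domQ u pL chartL).ι ≫ pL ≫ r' := hr'.trans (Category.assoc _ _ _)
  have hkey : ∀ (U : Y.Opens) (hU : IsAffineOpen U) (j : ℕ), 0 < j →
      ∀ (g : 𝒜.presheaf.obj (op U)) (hg : g ∈ 𝒜.deg U hU j)
      (V : X.Opens) (_ : IsAffineOpen V) (hVU : V ≤ f ⁻¹ᵁ U) (h : V ≤ r' ⁻¹ᵁ Rel.DPlus p ch hU g)
      (k : ℕ) (a : 𝒜.presheaf.obj (op U)) (ha : a ∈ 𝒜.deg U hU (k • j))
      (c : Γ(P, Rel.DPlus p ch hU g)),
      ((RelProj.emb p ch U hU).appLE (Rel.DPlus p ch hU g)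
        (Proj.basicOpen (𝒜.deg U hU) g) ((RelProj.emb p ch U hU).preimage_image_eq _).ge).hom c =
          RelTilde.away (𝒜.deg U hU) hg k ha →
      ∃ N : ℕ, (u.appLE U V hVU).hom g ^ N * ((u.appLE U V hVU).hom g ^ k *
        strL 𝒮L V ((r'.appLE (Rel.DPlus p ch hU g) V h).hom c) - (u.appLE U V hVU).hom a) = 0 :=
    fun U hU j hj g hg V hV hVU h k a ha c hc => key u hPL hr hrι hU hj hg hV hVU h ha c hc
  obtain ⟨θ, hθ⟩ := exists_comparison hL hLq hjl u hP hOn hover hpre hkey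
  have hLn : Coh.IsQCoh (CohB1.tensorPow L n) :=
    TMul.isQCoh_of_isInvertible (TMul.isInvertible_tensorPow hL n)
  haveI : IsIso (((Scheme.Modules.pullbackPushforwardAdjunction r').homEquiv On _).symm θ) := by
    refine RelTilde.isIso_adjunct r' θ hOn.isQCoh hLn fun x => ?_
    obtain ⟨U, hU, hxU, -⟩ := exists_isAffineOpen_mem_and_subset (x := f.base x) (U := ⊤) trivial
    obtain ⟨j, q, b, hj, hq, hb, hxq, hxb⟩ := exists_consecutive hL hLq hjl u hamp hu hU hxU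
    let E := RelProj.emb p ch U hU
    let D := Rel.DPlus p ch hU (b * q)
    let p' := b ^ n * q
    let q' := q ^ (n + 1)
    have hp' : p' ∈ 𝒜.deg U hU ((n + 1) * j + n) := by
      have := SetLike.mul_mem_graded (SetLike.pow_mem_graded n hb) hq
      rwa [show n • (j + 1) + j = (n + 1) * j + n by simp only [smul_eq_mul]; ring] at this
    have hq' : q' ∈ 𝒜.deg U hU ((n + 1) * j) := by
      have := SetLike.pow_mem_graded (A := 𝒜.deg U hU) (n + 1) hq
      rwa [smul_eq_mul] at this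
    have hle : ∀ y, y ∈ Proj.basicOpen (𝒜.deg U hU) (b * q) →
        p' ∉ y.asHomogeneousIdeal ∧ q' ∉ y.asHomogeneousIdeal := by
      intro y hy
      rw [Proj.basicOpen_mul] at hy
      have h1 := (ProjectiveSpectrum.mem_basicOpen _ b y).mp hy.1
      have h2 := (ProjectiveSpectrum.mem_basicOpen _ q y).mp hy.2
      exact ⟨RelTilde.not_mem_mul _ (RelTilde.not_mem_pow _ h1 n) h2, RelTilde.not_mem_pow _ h2 _⟩
    have hU1 : E ⁻¹ᵁ D ≤ Proj.basicOpen (𝒜.deg U hU) p' := fun y hy =>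
      (ProjectiveSpectrum.mem_basicOpen _ p' y).mpr (hle y ((E.preimage_image_eq _).le hy)).1
    have hU2 : E ⁻¹ᵁ D ≤ Proj.basicOpen (𝒜.deg U hU) q' := fun y hy =>
      (ProjectiveSpectrum.mem_basicOpen _ q' y).mpr (hle y ((E.preimage_image_eq _).le hy)).2
    have hij : (((n + 1) * j + n : ℕ) : ℤ) = ((n + 1) * j : ℕ) + (n : ℤ) := by push_cast; ring
    let T := RelTilde.twistGen (𝒜.deg U hU) hp' hq' hij hU2
    obtain ⟨G, hG⟩ := (hOn.bijective' U hU D (E.image_le_opensRange _)).2 T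
    have hGgen : IsGen G := RelTilde.isGen_of_app E (lam U hU) (hOn.bijective' U hU)
      (E.image_le_opensRange _) G (hG.symm ▸ RelTilde.twistGen_bijective (𝒜.deg U hU) hp' hq' hij hU1 hU2)
    have hxD : r'.base x ∈ D := by
      obtain ⟨y, hy, hyx⟩ := (hpre U hU j hj q hq x).mpr hxq
      obtain ⟨y', hy', hyx'⟩ := (hpre U hU (j + 1) (by omega) b hb x).mpr hxb
      obtain rfl : y = y' := E.isOpenEmbedding.injective (hyx.trans hyx'.symm)
      exact ⟨y, by rw [SetLike.mem_coe, Proj.basicOpen_mul]; exact ⟨hy', hy⟩, hyx⟩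
    obtain ⟨y, hy, hyx⟩ := hxD
    have hxD : r'.base x ∈ D := ⟨y, hy, hyx⟩
    have hR : Reads (p := p) (ch := ch) (lam := lam) (r' := r') n G hU ((n + 1) * j) q' p' x :=
      ⟨Nat.mul_pos n.succ_pos hj, hq', hp', y, hyx ▸ hxD, (hle y hy).2, hyx, by rw [hG]; rfl⟩
    obtain ⟨V₁, h₁, hU₁, hx₁, e₁⟩ := hθ D G x hxD U hU _ q' p' hR
    have hxp : x ∈ Rel.NV u hU ((n + 1) * j + n) p' :=
      (hpre U hU _ (Nat.add_pos_left (Nat.mul_pos n.succ_pos hj) _) p' hp' x).mp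
        ⟨y, (ProjectiveSpectrum.mem_basicOpen _ p' y).mpr (hle y hy).1, hyx⟩
    obtain ⟨V, hV, e, cp, hVU, hxV, hVle, he, hcp, hp⟩ :=
      exists_nhd hL hLq hjl u hU hp' hxp (O := V₁) hx₁
    refine ⟨D, (Proj.isAffineOpen_basicOpen _ (b * q) (SetLike.mul_mem_graded hb hq)
      (by omega)).image_of_isOpenImmersion E, V, hV, hVle.trans h₁, hxV, ?_⟩
    refine RelTilde.isBC_of_isGen r' θ _ G hGgen ?_
    have f₁ := congrArg (resL 𝒮L hVle) e₁
    rw [map_mul, theta_res, resL_appLE, resL_appLE, res_res, hp] at f₁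
    obtain ⟨cq, hcq'⟩ := exists_coeff hLq hjl hV he (u.map_mem U hU V hV hVU hq')
    have hcq : (u.appLE U V hVU).hom q' = strL 𝒮L V cq * jL jl V e ^ ((n + 1) * j) := hcq'
    change IsGen (res (CohB1.tensorPow L n) (hVle.trans h₁) (θ.app D G))
    obtain ⟨c, hc⟩ := (TMul.isGen_pw he n V le_rfl).2
      (res (CohB1.tensorPow L n) (hVle.trans h₁) (θ.app D G))
    simp only [res_self] at hc
    rw [← hc] at f₁ ⊢
    rw [theta_smul, theta_pw, hcq] at f₁
    have h2 := coeff_inj hLq hjl hV he (n := (n + 1) * j + n) (c := c * cq) (c' := cp)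
      (by rw [map_mul]; linear_combination f₁)
    exact TMul.isGen_smul (TMul.isGen_pw he n) (isUnit_of_mul_isUnit_left (h2 ▸ hcp))
  exact ⟨(Scheme.Modules.pullbackCongr hr').app On ≪≫
    ((Scheme.Modules.pullbackComp ι' r').app On).symm ≪≫
    (Scheme.Modules.pullback ι').mapIso
      (asIso (((Scheme.Modules.pullbackPushforwardAdjunction r').homEquiv On _).symm θ))⟩

end Groth.Agent.SymAlg.AmpleTwist
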