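import Groth.Agent.SymAlg.RLRel
import Groth.Agent.RelTilde.QCoh
import Groth.Agent.RelProjLib.QMap

/-!
Functions pulled back along `r_{L,ψ}`.
-/

set_option autoImplicit false
set_option backward.isDefEq.respectTransparency false
set_option linter.style.haveILetI false

universe u

open CategoryTheory CategoryTheory.Limits AlgebraicGeometry TopologicalSpace Opposite
  HomogeneousLocalization
open scoped HomogeneousIdeal

noncomputable section

namespace Groth.Agent.SymAlg.AmpleTwist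

open Groth.Agent

/-- The affine chart `D₊(g)` of `Proj` as `Spec` of the degree zero localisation. -/
lemma fromSpec_basicOpen {A σ : Type u} [CommRing A] [SetLike σ A] [AddSubgroupClass σ A]
    (𝒜 : ℕ → σ) [GradedRing 𝒜] {g : A} {d : ℕ} (hg : g ∈ 𝒜 d) (hd : 0 < d) :
    (Proj.isAffineOpen_basicOpen 𝒜 g hg hd).fromSpec =
      Spec.map (Proj.awayToSection 𝒜 g) ≫ Proj.awayι 𝒜 g hg hd := by
  let hD := Proj.isAffineOpen_basicOpen 𝒜 g hg hd
  rw [← cancel_epi hD.isoSpec.hom, IsAffineOpen.isoSpec_hom_fromSpec, ← Category.assoc,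
    IsAffineOpen.isoSpec_hom]
  change _ = Proj.basicOpenToSpec 𝒜 g ≫ Proj.awayι 𝒜 g hg hd
  rw [← Proj.basicOpenIsoSpec_hom 𝒜 g hg hd, Proj.awayι, Iso.hom_inv_id_assoc]

variable {Y X P PL : Scheme.{u}} {q : X ⟶ Y} {𝒮 : RelProj.QCGrAlg Y} {𝒮L : RelProj.QCGrAlg X}
  (u : RelProj.QGrHom q 𝒮 𝒮L) {p : P ⟶ Y}
  {chart : ∀ (U : Y.Opens) (hU : IsAffineOpen U), ((p ⁻¹ᵁ U : P.Opens) : Scheme.{u}) ≅ Proj (𝒮.deg U hU)}
  {pL : PL ⟶ X}
  {chartL : ∀ (U : X.Opens) (hU : IsAffineOpen U), ((pL ⁻¹ᵁ U : PL.Opens) : Scheme.{u}) ≅ Proj (𝒮L.deg U hU)}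
  (hPL : RelProj.IsRelProj 𝒮L pL chartL)
  {r : ((RelProj.domQ u pL chartL : PL.Opens) : Scheme.{u}) ⟶ P}
  (hr : RelProj.IsProjQMapOn u p chart pL chartL (RelProj.domQ u pL chartL) r)
  {r' : X ⟶ P} (hr' : r = (RelProj.domQ u pL chartL).ι ≫ pL ≫ r')
  {U : Y.Opens} (hU : IsAffineOpen U) {d : ℕ} (hd : 0 < d) {g : 𝒮.presheaf.obj (op U)}
  (hg : g ∈ 𝒮.deg U hU d)

include hPL hr hr' hd in
/-- A fraction `a / g ^ k` pulled back to `X`, multiplied by `ψ g ^ k`, is `ψ a` up to `ψ g`-torsion. -/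
theorem key {V : X.Opens} (hV : IsAffineOpen V) (hVU : V ≤ q ⁻¹ᵁ U)
    (h : V ≤ r' ⁻¹ᵁ Rel.DPlus p chart hU g) {k : ℕ} {a : 𝒮.presheaf.obj (op U)}
    (ha : a ∈ 𝒮.deg U hU (k • d)) (c : Γ(P, Rel.DPlus p chart hU g))
    (hc : ((RelProj.emb p chart U hU).appLE (Rel.DPlus p chart hU g)
      (Proj.basicOpen (𝒮.deg U hU) g) ((RelProj.emb p chart U hU).preimage_image_eq _).ge).hom c =
        RelTilde.away (𝒮.deg U hU) hg k ha) :
    ∃ N : ℕ, (u.appLE U V hVU).hom g ^ N * ((u.appLE U V hVU).hom g ^ k *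
      (𝒮L.str.app (op V)).hom ((r'.appLE (Rel.DPlus p chart hU g) V h).hom c) -
        (u.appLE U V hVU).hom a) = 0 := by
  let E := RelProj.emb p chart U hU
  let ψ := u.gradedAt U hU V hV hVU
  let D := Rel.DPlus p chart hU g
  let hD : IsAffineOpen D := (Proj.isAffineOpen_basicOpen _ g hg hd).image_of_isOpenImmersion E
  let rH : CommRingCat.of (Away (𝒮.deg U hU) g) ⟶ CommRingCat.of (Away (𝒮L.deg V hV) (ψ g)) :=
    CommRingCat.ofHom (Away.map ψ g)
  let fz : Γ(X, V) ⟶ CommRingCat.of (Away (𝒮L.deg V hV) (ψ g)) :=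
    CommRingCat.ofHom ((fromZeroRingHom (𝒮L.deg V hV) (Submonoid.powers (ψ g))).comp
      (𝒮L.strZero V hV).hom)
  let i : RelProjLib.Idx (g := q) (𝒮 := 𝒮) := ⟨U, hU, V, hV, hVU, d, hd, g, hg⟩
  have h1 : RelProjLib.srcLift u pL chartL i ≫ r = RelProjLib.tgt u p chart i :=
    (RelProjLib.isProjQMapOn_iff u r).mp hr i
  rw [hr', RelProjLib.srcLift_ι_assoc] at h1
  have h2 : RelProjLib.src u pL chartL i ≫ pL = Spec.map fz ≫ hV.fromSpec := by
    change (Proj.awayι (𝒮L.deg V hV) (ψ g) _ _ ≫ RelProj.emb pL chartL V hV) ≫ pL = _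
    rw [Category.assoc, RelProjLib.emb_p hPL V hV, RelProjLib.affBase_eq,
      Category.assoc, Proj.awayι_toSpecZero_assoc, ← Spec.map_comp_assoc]
    rfl
  let e := E.appLE D (Proj.basicOpen (𝒮.deg U hU) g) (E.preimage_image_eq _).ge
  haveI : IsIso (Proj.awayToSection (𝒮.deg U hU) g) :=
    (ConcreteCategory.isIso_iff_bijective _).mpr (ProjLib.awayToSection_bijective (𝒮.deg U hU) hg hd)
  have h3 : Proj.awayι (𝒮.deg U hU) g hg hd ≫ E =
      Spec.map (e ≫ inv (Proj.awayToSection (𝒮.deg U hU) g)) ≫ hD.fromSpec := by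
    rw [Spec.map_comp, Category.assoc,
      IsAffineOpen.SpecMap_appLE_fromSpec E hD (Proj.isAffineOpen_basicOpen _ g hg hd),
      fromSpec_basicOpen (𝒮.deg U hU) hg hd, ← Category.assoc, ← Category.assoc, ← Spec.map_comp,
      IsIso.hom_inv_id, Spec.map_id, Category.id_comp]
  rw [← Category.assoc, h2, Category.assoc,
    ← IsAffineOpen.SpecMap_appLE_fromSpec r' hD hV h] at h1
  change Spec.map fz ≫ Spec.map (r'.appLE D V h) ≫ hD.fromSpec =
    Spec.map rH ≫ Proj.awayι (𝒮.deg U hU) g hg hd ≫ E at h1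
  rw [h3, ← Spec.map_comp_assoc, ← Spec.map_comp_assoc, cancel_mono] at h1
  have h4 : (r'.appLE D V h ≫ fz).hom c =
      ((e ≫ inv (Proj.awayToSection (𝒮.deg U hU) g)) ≫ rH).hom c := by rw [Spec.map_injective h1]
  have h5 : ((e ≫ inv (Proj.awayToSection (𝒮.deg U hU) g)) ≫ rH).hom c =
      Away.map ψ g (Away.mk (𝒮.deg U hU) hg k a ha) := by
    change Away.map ψ g ((inv (Proj.awayToSection (𝒮.deg U hU) g)).hom (e.hom c)) = _
    rw [show e.hom c = RelTilde.away (𝒮.deg U hU) hg k ha from hc]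
    exact congrArg (Away.map ψ g) (congr(($(IsIso.hom_inv_id (Proj.awayToSection (𝒮.deg U hU) g))).hom
      (Away.mk (𝒮.deg U hU) hg k a ha)))
  have h6 := congrArg HomogeneousLocalization.val (h4.trans h5)
  change (fromZeroRingHom (𝒮L.deg V hV) (Submonoid.powers (ψ g))
    ((𝒮L.strZero V hV).hom ((r'.appLE D V h).hom c))).val = (Away.map ψ g (Away.mk (𝒮.deg U hU) hg k a ha)).val at h6
  rw [Away.map_mk, Away.val_mk] at h6
  change Localization.mk ((𝒮L.str.app (op V)).hom ((r'.appLE D V h).hom c)) 1 = _ at h6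
  rw [Localization.mk_eq_mk_iff, Localization.r_iff_exists] at h6
  obtain ⟨⟨_, N, rfl⟩, hN⟩ := h6
  refine ⟨N, ?_⟩
  simp only [Submonoid.coe_one, one_mul, OneMemClass.coe_one] at hN
  rw [mul_sub, sub_eq_zero]
  exact hN

end Groth.Agent.SymAlg.AmpleTwist
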